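import Groth.Agent.HomotopySeq.Main
import Groth.Agent.CompleteFF.Main
import Groth.Agent.Pi1Ext.Spread
import Groth.Agent.Pi1X.GeomConnFF
import Groth.Agent.GeomField.Connected
import Groth.Agent.RGLib.ApproxGeomCount
import Groth.Agent.GrpSchLib.FieldReduced
import Groth.Agent.AlgStLib.OnePointSt
import Groth.Agent.AlgStLib.Noetherian
import Groth.Agent.EtH0Lib.Components
import Groth.Agent.S0239
import Groth.Agent.S0289
import Mathlib.FieldTheory.PurelyInseparable.PerfectClosure
import Mathlib.AlgebraicGeometry.Morphisms.UniversallyInjective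

/-! Middle exactness over complete Noetherian local rings. -/

set_option autoImplicit false
set_option linter.style.haveILetI false
set_option backward.isDefEq.respectTransparency false
set_option backward.isDefEq.respectTransparency.types false
universe u

open CategoryTheory CategoryTheory.Limits AlgebraicGeometry TopologicalSpace

noncomputable section

namespace Groth.Agent.CompleteMid

open Pi1Ext.Spread

theorem universallyInjective_spec (k P : Type u) [Field k] [Field P] [Algebra k P] [IsPurelyInseparable k P] :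
    UniversallyInjective (Spec.map (CommRingCat.ofHom (algebraMap k P))) := by
  refine ((tfae_universallyInjective _).out 0 1).2 fun L hL g₁ g₂ hg => ?_
  obtain ⟨a, rfl⟩ := Spec.map_surjective g₁
  obtain ⟨b, rfl⟩ := Spec.map_surjective g₂
  have hg' : CommRingCat.ofHom (algebraMap k P) ≫ a = CommRingCat.ofHom (algebraMap k P) ≫ b :=
    Spec.map_injective (by rw [Spec.map_comp, Spec.map_comp]; exact hg)
  congr 1
  ext1
  letI := hL
  exact IsPurelyInseparable.injective_comp_algebraMap k P L congr($(hg').hom)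

theorem connectedSpace_of_homeo {X Y : Scheme.{u}} (m : X ⟶ Y) [IsIntegralHom m] [UniversallyInjective m]
    [Surjective m] [ConnectedSpace Y] : ConnectedSpace X := by
  have he : IsHomeomorph m.base :=
    isHomeomorph_iff_continuous_isClosedMap_bijective.2 ⟨m.continuous, m.isClosedMap, m.injective, m.surjective⟩
  exact (he.homeomorph _).symm.surjective.connectedSpace (he.homeomorph _).symm.continuous

/-- The case of a base field. -/
theorem essImage_field (k : Type u) [Field k] {Z : Scheme.{u}} (f₀ : Z ⟶ Spec (CommRingCat.of k)) [IsProper f₀]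
    (ξ : Spec (CommRingCat.of (AlgebraicClosure k)) ⟶ Spec (CommRingCat.of k))
    (hξ : ξ = Spec.map (CommRingCat.ofHom (algebraMap k (AlgebraicClosure k))))
    [ConnectedSpace ↥(pullback f₀ ξ)] (Y : FEt.Cat Z) [ConnectedSpace Y.left]
    (σ : pullback f₀ ξ ⟶ Y.left) (hσ : σ ≫ Y.hom = pullback.fst f₀ ξ) :
    (FEt.restrict f₀).essImage Y := by
  subst hξ
  let Ω := AlgebraicClosure k
  let P := perfectClosure k Ω
  let π : Spec (CommRingCat.of P) ⟶ Spec (CommRingCat.of k) := Spec.map (CommRingCat.ofHom (algebraMap k P))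
  let b : Spec (CommRingCat.of Ω) ⟶ Spec (CommRingCat.of P) := Spec.map (CommRingCat.ofHom (algebraMap P Ω))
  let ξ : Spec (CommRingCat.of Ω) ⟶ Spec (CommRingCat.of k) := Spec.map (CommRingCat.ofHom (algebraMap k Ω))
  have hb : b ≫ π = ξ := by
    rw [← Spec.map_comp]; rfl
  haveI : UniversallyInjective π := universallyInjective_spec k P
  haveI : IsIntegralHom π := IsIntegralHom.SpecMap_iff.2 (algebraMap_isIntegral_iff.2 inferInstance)
  haveI : Surjective π := GrpSchLib.surjective_spec_map_field _
  let ZP := pullback f₀ π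
  let I : ZP.IdealSheafData := Scheme.IdealSheafData.vanishingIdeal ⊤
  let R := I.subscheme
  haveI : IsReduced R := inferInstanceAs (IsReduced (Scheme.IdealSheafData.vanishingIdeal ⊤).subscheme)
  let r : R ⟶ ZP := I.subschemeι
  haveI : Surjective r := ⟨Set.range_eq_univ.1 (by
    rw [Scheme.IdealSheafData.range_subschemeι]; simp [I])⟩
  let f₁ : R ⟶ Spec (CommRingCat.of P) := r ≫ pullback.snd f₀ π
  haveI : IsProper (pullback.snd f₀ π) := MorphismProperty.pullback_snd _ _ inferInstance
  haveI : IsProper f₁ := inferInstanceAs (IsProper (r ≫ pullback.snd f₀ π))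
  haveI : Flat f₁ := AlgStLib.OnePt.flat_of_field f₁
  haveI : LocallyOfFinitePresentation f₁ := AlgStLib.locallyOfFinitePresentation_of_isLocallyNoetherian f₁ inferInstance
  haveI : GeometricallyReduced f₁ := ⟨fun K _ y Q fst snd sq => by
    haveI : IsReduced (pullback f₁ y) := GrpSchLib.isReduced_pullback_of_perfectField f₁ y
    exact isReduced_of_isOpenImmersion sq.isoPullback.hom⟩
  let m : R ⟶ Z := r ≫ pullback.fst f₀ π
  haveI : IsIntegralHom (pullback.fst f₀ π) := MorphismProperty.pullback_fst _ _ inferInstance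
  haveI : UniversallyInjective (pullback.fst f₀ π) := MorphismProperty.pullback_fst _ _ inferInstance
  haveI : Surjective (pullback.fst f₀ π) := MorphismProperty.pullback_fst _ _ inferInstance
  haveI : IsIntegralHom m := inferInstanceAs (IsIntegralHom (r ≫ pullback.fst f₀ π))
  haveI : UniversallyInjective r := inferInstance
  haveI : UniversallyInjective m := MorphismProperty.comp_mem _ r (pullback.fst f₀ π) ‹_› ‹_›
  haveI : Surjective m := inferInstanceAs (Surjective (r ≫ pullback.fst f₀ π))
  have hm : m ≫ f₀ = f₁ ≫ π := by simp [m, f₁, pullback.condition]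
  -- the geometric fibre of `f₁`
  let γ : pullback f₁ b ⟶ pullback f₀ ξ := pullback.lift (pullback.fst f₁ b ≫ m) (pullback.snd f₁ b) (by
    rw [Category.assoc, hm, ← Category.assoc, pullback.condition, Category.assoc, hb])
  have hγ₁ : γ ≫ pullback.fst f₀ ξ = pullback.fst f₁ b ≫ m := pullback.lift_fst _ _ _
  have hγ₂ : γ ≫ pullback.snd f₀ ξ = pullback.snd f₁ b := pullback.lift_snd _ _ _
  let e₀ : pullback f₀ ξ ⟶ ZP := pullback.lift (pullback.fst f₀ ξ) (pullback.snd f₀ ξ ≫ b) (by
    rw [Category.assoc, hb, pullback.condition])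
  have he₀ : IsPullback e₀ (pullback.snd f₀ ξ) (pullback.snd f₀ π) b := by
    refine IsPullback.of_right ?_ (pullback.lift_snd _ _ _) (IsPullback.of_hasPullback f₀ π)
    rw [pullback.lift_fst, hb]
    exact IsPullback.of_hasPullback f₀ ξ
  have hγsq : IsPullback (pullback.fst f₁ b) γ r e₀ := by
    refine IsPullback.of_bot ?_ ?_ he₀
    · rw [hγ₂]; exact IsPullback.of_hasPullback f₁ b
    · apply pullback.hom_ext
      · rw [Category.assoc, Category.assoc, pullback.lift_fst, hγ₁]
      · rw [Category.assoc, Category.assoc, pullback.lift_snd, ← Category.assoc γ, hγ₂]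
        exact pullback.condition
  haveI : Surjective γ := MorphismProperty.of_isPullback hγsq ‹_›
  haveI : IsClosedImmersion γ := MorphismProperty.of_isPullback hγsq inferInstance
  haveI : ConnectedSpace ↥(pullback f₁ b) := connectedSpace_of_homeo γ
  haveI : GeometricallyConnected f₁ := by
    rw [RGLib.ApproxCount.geometricallyConnected_iff]
    intro y
    let f₂ := pullback.snd f₁ b
    let p₀ : Spec (CommRingCat.of Ω) := IsLocalRing.closedPoint Ω
    rw [show y = b p₀ from Subsingleton.elim _ _, ← (Triage.GeomCount.nGeom_baseChange f₁ f₂ (pullback.fst f₁ b) b (IsPullback.of_hasPullback f₁ b) p₀).2]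
    refine (RGLib.ApproxCount.geometricallyConnected_iff f₂).1 ?_ p₀
    letI : (pullback f₁ b).Over (Spec (CommRingCat.of Ω)) := ⟨f₂⟩
    exact GeomField.geometricallyConnected_of_separableClosure
      (GeomField.connectedSpace_bc_of_isSepClosed (k := Ω) (X := pullback f₁ b) _)
  let Y₁ : FEt.Cat R := (FEt.restrict m).obj Y
  haveI : ConnectedSpace ↥((𝟭 Scheme).obj Y.left) := ‹ConnectedSpace Y.left›
  haveI : ConnectedSpace Y₁.left := by
    haveI : IsIntegralHom (pullback.fst Y.hom m) := MorphismProperty.pullback_fst _ _ inferInstance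
    haveI : UniversallyInjective (pullback.fst Y.hom m) := MorphismProperty.pullback_fst _ _ inferInstance
    haveI : Surjective (pullback.fst Y.hom m) := MorphismProperty.pullback_fst _ _ inferInstance
    exact connectedSpace_of_homeo (pullback.fst Y.hom m)
  let σ₁ : pullback f₁ b ⟶ Y₁.left := pullback.lift (γ ≫ σ) (pullback.fst f₁ b) (by
    rw [Category.assoc, hσ]; exact hγ₁)
  obtain ⟨T₁, ⟨i₁⟩⟩ := HomotopySeq.essImage_of_section f₁ Y₁ Ω b σ₁ (pullback.lift_snd _ _ _)
  haveI := Groth.Agent.S0289.result π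
  haveI := Groth.Agent.S0289.result m
  let T₀ := (FEt.restrict π).objPreimage T₁
  exact ⟨T₀, ⟨(FEt.restrict m).preimageIso (restrictSquare m f₀ f₁ π hm T₀ ≪≫
    (FEt.restrict f₁).mapIso ((FEt.restrict π).objObjPreimageIso T₁) ≪≫ i₁)⟩⟩

theorem restrict_closedFibre_fullyFaithful (A : Type u) [CommRing A] [HenselianLocalRing A] [IsNoetherianRing A]
    [HenselianRing A (IsLocalRing.maximalIdeal A)]
    {X : Scheme.{u}} (f : X ⟶ Spec (CommRingCat.of A)) [IsProper f] :
    (FEt.restrict (pullback.fst f (Spec.map (CommRingCat.ofHom (IsLocalRing.residue A))))).Full ∧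
      (FEt.restrict (pullback.fst f (Spec.map (CommRingCat.ofHom (IsLocalRing.residue A))))).Faithful := by
  let ρ := Spec.map (CommRingCat.ofHom (IsLocalRing.residue A))
  haveI : IsClosedImmersion ρ := IsClosedImmersion.spec_of_surjective _ IsLocalRing.residue_surjective
  have hρ : Set.range ρ = {IsLocalRing.closedPoint A} := by
    refine Set.eq_singleton_iff_nonempty_unique_mem.2 ⟨Set.range_nonempty _, ?_⟩
    rintro _ ⟨p, rfl⟩
    refine PrimeSpectrum.ext ?_
    show Ideal.comap (IsLocalRing.residue A) (p : PrimeSpectrum (IsLocalRing.ResidueField A)).asIdeal = _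
    rw [(Ideal.eq_bot_or_top _).resolve_right (p : PrimeSpectrum (IsLocalRing.ResidueField A)).isPrime.ne_top]
    exact IsLocalRing.ker_residue
  let i := pullback.fst f ρ
  have hi : Set.range i = f ⁻¹' {IsLocalRing.closedPoint A} := by
    rw [Scheme.Pullback.range_fst, hρ]
  have hC : ∀ C : Set X, IsClopen C → C.Nonempty → (C ∩ Set.range i.base).Nonempty := by
    rintro C hC ⟨x, hx⟩
    obtain ⟨v, hv, hvs⟩ := (IsLocalRing.specializes_closedPoint (f x : PrimeSpectrum A)).mem_closed
      (f.isClosedMap _ hC.1) ⟨x, hx, rfl⟩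
    exact ⟨v, hv, hi.ge hvs⟩
  refine ⟨Pi1X.restrict_full i hC fun W C hCc => ?_, Pi1X.restrict_faithful i hC⟩
  let φ : W.left ⟶ X := W.hom
  haveI : IsFinite φ := W.prop.1
  let g := φ ≫ f
  let j : pullback W.hom i ⟶ W.left := pullback.fst W.hom i
  haveI : IsClosedImmersion j := MorphismProperty.pullback_fst _ _ inferInstance
  haveI : IsLocallyNoetherian W.left := LocallyOfFiniteType.isLocallyNoetherian g
  haveI : CompactSpace ↥W.left := QuasiCompact.compactSpace_of_compactSpace g
  haveI : IsNoetherian W.left := {}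
  haveI : LocallyConnectedSpace W.left := H23.LocNoethTop.locallyConnectedSpace fun x =>
    ⟨Set.univ, Filter.univ_mem, (noetherianSpace_set_iff _).2 fun t _ => NoetherianSpace.isCompact t⟩
  haveI : QuasiSeparatedSpace ↥W.left := inferInstance
  haveI : QuasiSeparatedSpace ↥(pullback W.hom i) := quasiSeparatedSpace_of_quasiSeparated j
  have hj : Set.range j = EtH0Lib.Zof g (IsLocalRing.maximalIdeal A) := by
    have h1 : Set.range j = φ ⁻¹' Set.range i := Scheme.Pullback.range_fst W.hom i
    rw [h1, hi, EtH0Lib.Zof, PrimeSpectrum.zeroLocus_eq_singleton]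
    rfl
  obtain ⟨hinj, -⟩ := EtH0Lib.bijective_components (IsLocalRing.maximalIdeal A) g j j.isClosedEmbedding hj
  let G : Set W.left := ⋃ x ∈ C, connectedComponent (j x)
  have hG : IsClopen G := by
    refine ⟨?_, isOpen_biUnion fun x _ => isOpen_connectedComponent⟩
    rw [← isOpen_compl_iff, isOpen_iff_forall_mem_open]
    refine fun w hw => ⟨connectedComponent w, fun v hv hvG => hw ?_, isOpen_connectedComponent, mem_connectedComponent⟩
    obtain ⟨x, hx, hxv⟩ := Set.mem_iUnion₂.1 hvG
    refine Set.mem_iUnion₂.2 ⟨x, hx, ?_⟩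
    rw [connectedComponent_eq hxv, ← connectedComponent_eq hv]
    exact mem_connectedComponent
  refine ⟨G, hG, Set.Subset.antisymm (fun p hp => ?_) fun p hp => Set.mem_iUnion₂.2 ⟨p, hp, mem_connectedComponent⟩⟩
  obtain ⟨x, hx, hxp⟩ := Set.mem_iUnion₂.1 hp
  have := hinj (a₁ := ConnectedComponents.mk p) (a₂ := ConnectedComponents.mk x) (ConnectedComponents.coe_eq_coe'.2 hxp)
  exact hCc.connectedComponent_subset hx (ConnectedComponents.coe_eq_coe'.1 this)

theorem essImage_complete (A : Type u) [CommRing A] [HenselianLocalRing A] [IsNoetherianRing A]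
    [HenselianRing A (IsLocalRing.maximalIdeal A)]
    {X : Scheme.{u}} (f : X ⟶ Spec (CommRingCat.of A)) [IsProper f]
    (ξ : Spec (CommRingCat.of (AlgebraicClosure (IsLocalRing.ResidueField A))) ⟶ Spec (CommRingCat.of A))
    (hξ : ξ = Spec.map (CommRingCat.ofHom ((algebraMap (IsLocalRing.ResidueField A)
      (AlgebraicClosure (IsLocalRing.ResidueField A))).comp (IsLocalRing.residue A))))
    [ConnectedSpace ↥(pullback f ξ)] (X' : FEt.Cat X) [ConnectedSpace X'.left]
    (σ : pullback f ξ ⟶ X'.left) (hσ : σ ≫ X'.hom = pullback.fst f ξ) :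
    ∃ T : FEt.Cat (Spec (CommRingCat.of A)), Nonempty ((FEt.restrict f).obj T ≅ X') := by
  let k := IsLocalRing.ResidueField A
  let ρ : Spec (CommRingCat.of k) ⟶ Spec (CommRingCat.of A) := Spec.map (CommRingCat.ofHom (IsLocalRing.residue A))
  let ξ₀ : Spec (CommRingCat.of (AlgebraicClosure k)) ⟶ Spec (CommRingCat.of k) :=
    Spec.map (CommRingCat.ofHom (algebraMap k (AlgebraicClosure k)))
  have hξ' : ξ = ξ₀ ≫ ρ := by rw [hξ, ← Spec.map_comp]; rfl
  let i := pullback.fst f ρ
  let f₀ := pullback.snd f ρ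
  let δ : pullback f₀ ξ₀ ≅ pullback f ξ := pullbackLeftPullbackSndIso f ρ ξ₀ ≪≫ pullback.congrHom rfl hξ'.symm
  have hδ : δ.hom ≫ pullback.fst f ξ = pullback.fst f₀ ξ₀ ≫ i := by
    simp [δ, i, f₀]
  haveI : ConnectedSpace ↥(pullback f₀ ξ₀) :=
    (Scheme.homeoOfIso δ).symm.surjective.connectedSpace (Scheme.homeoOfIso δ).symm.continuous
  let Y : FEt.Cat (pullback f ρ) := (FEt.restrict i).obj X'
  let φ : X'.left ⟶ X := X'.hom
  haveI : IsFinite φ := X'.prop.1
  let g := φ ≫ f
  haveI : IsClosedImmersion ρ := IsClosedImmersion.spec_of_surjective _ IsLocalRing.residue_surjective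
  haveI : ConnectedSpace Y.left := by
    let j : Y.left ⟶ X'.left := pullback.fst X'.hom i
    haveI : IsClosedImmersion j := MorphismProperty.pullback_fst _ _ inferInstance
    haveI : QuasiSeparatedSpace ↥X'.left := quasiSeparatedSpace_of_quasiSeparated g
    haveI : QuasiSeparatedSpace ↥Y.left := quasiSeparatedSpace_of_quasiSeparated j
    have hj : Set.range j = EtH0Lib.Zof g (IsLocalRing.maximalIdeal A) := by
      have h1 : Set.range j = φ ⁻¹' Set.range i := Scheme.Pullback.range_fst X'.hom i
      rw [h1, Scheme.Pullback.range_fst, EtH0Lib.Zof, PrimeSpectrum.zeroLocus_eq_singleton]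
      have : Set.range ρ = {(IsLocalRing.closedPoint A : PrimeSpectrum A)} := by
        refine Set.eq_singleton_iff_nonempty_unique_mem.2 ⟨Set.range_nonempty _, ?_⟩
        rintro _ ⟨p, rfl⟩
        refine PrimeSpectrum.ext ?_
        show Ideal.comap (IsLocalRing.residue A) (p : PrimeSpectrum k).asIdeal = _
        rw [(Ideal.eq_bot_or_top _).resolve_right (p : PrimeSpectrum k).isPrime.ne_top]
        exact IsLocalRing.ker_residue
      rw [this]
      rfl
    exact (EtH0Lib.connectedSpace_iff_of_bijective j.continuous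
      (EtH0Lib.bijective_components (IsLocalRing.maximalIdeal A) g j j.isClosedEmbedding hj)).1 ‹ConnectedSpace X'.left›
  let σ₀ : pullback f₀ ξ₀ ⟶ Y.left := pullback.lift (δ.hom ≫ σ) (pullback.fst f₀ ξ₀) (by rw [Category.assoc, hσ, hδ])
  obtain ⟨T₀, ⟨i₀⟩⟩ := essImage_field k f₀ ξ₀ rfl Y σ₀ (pullback.lift_snd _ _ _)
  haveI : (FEt.restrict ρ).IsEquivalence := Groth.Agent.S0239.result A (IsLocalRing.maximalIdeal A)
  obtain ⟨h1, h2⟩ := restrict_closedFibre_fullyFaithful A f
  let T := (FEt.restrict ρ).objPreimage T₀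
  exact ⟨T, ⟨(FEt.restrict i).preimageIso (restrictSquare i f f₀ ρ pullback.condition T ≪≫
    (FEt.restrict f₀).mapIso ((FEt.restrict ρ).objObjPreimageIso T₀) ≪≫ i₀)⟩⟩

end Groth.Agent.CompleteMid
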